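import Mathlib

/-! helper5: adic completion of `M ⊗ N` for `M` finite and `N` flat over a Noetherian ring:
Artin–Rees after a flat tensor, exactness of completion under an Artin–Rees condition, and the
comparison isomorphism `M ⊗ N^ ≃ (M ⊗ N)^` (towards S7061). -/

set_option autoImplicit false
set_option linter.unusedVariables false
set_option linter.unusedSectionVars false

open TensorProduct

namespace Groth.Agent.Lib.Helper5.CplTen

universe u

section General

variable {A : Type u} [CommRing A]

/-- tensors of elements of `J • ⊤` lie in `J • ⊤`. -/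
theorem tmul_mem_smul_top {X N : Type*} [AddCommGroup X] [Module A X] [AddCommGroup N]
    [Module A N] (J : Ideal A) (x : X) (hx : x ∈ (J • ⊤ : Submodule A X)) (m : N) :
    x ⊗ₜ[A] m ∈ (J • ⊤ : Submodule A (X ⊗[A] N)) := by
  refine Submodule.smul_induction_on hx (fun a ha y _ => ?_) (fun y z hy hz => ?_)
  · rw [← TensorProduct.smul_tmul']
    exact Submodule.smul_mem_smul ha Submodule.mem_top
  · rw [TensorProduct.add_tmul]
    exact Submodule.add_mem _ hy hz

/-- a module killed by `J` stays killed after a tensor product -/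
theorem smul_tensor_eq_zero {X N : Type*} [AddCommGroup X] [Module A X] [AddCommGroup N]
    [Module A N] (a : A) (ha : ∀ x : X, a • x = 0) (w : X ⊗[A] N) : a • w = 0 := by
  induction w using TensorProduct.induction_on with
  | zero => rw [smul_zero]
  | tmul x m => rw [TensorProduct.smul_tmul', ha, TensorProduct.zero_tmul]
  | add u v hu hv => rw [smul_add, hu, hv, add_zero]

end General

section ARF

variable {A : Type u} [CommRing A] [IsNoetherianRing A] (I : Ideal A)
  {F : Type u} [AddCommGroup F] [Module A F] [Module.Finite A F] (R : Submodule A F)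
  (N : Type u) [AddCommGroup N] [Module A N] [Module.Flat A N]

/-- Artin–Rees after tensoring with a flat module. -/
theorem arFlat : ∃ c : ℕ, ∀ (n : ℕ) (x : R ⊗[A] N),
    (R.subtype.rTensor N) x ∈ (I ^ (c + n) • ⊤ : Submodule A (F ⊗[A] N)) →
      x ∈ (I ^ n • ⊤ : Submodule A (R ⊗[A] N)) := by
  obtain ⟨c, hc⟩ := Ideal.exists_pow_inf_eq_pow_smul I R
  refine ⟨c, fun n x hx => ?_⟩
  let K : Submodule A R := Submodule.comap R.subtype (I ^ (c + n) • ⊤ : Submodule A F)
  let q : F →ₗ[A] F ⧸ (I ^ (c + n) • ⊤ : Submodule A F) := Submodule.mkQ _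
  have hex : Function.Exact K.subtype (q ∘ₗ R.subtype) := by
    intro r
    constructor
    · intro h
      have h' : q (r : F) = 0 := h
      have : (r : F) ∈ (I ^ (c + n) • ⊤ : Submodule A F) := (Submodule.Quotient.mk_eq_zero _).1 h'
      exact ⟨⟨r, this⟩, rfl⟩
    · rintro ⟨k, rfl⟩
      exact (Submodule.Quotient.mk_eq_zero _).2 k.2
  have hex' := Module.Flat.rTensor_exact N hex
  have hkill : ∀ y ∈ (I ^ (c + n) • ⊤ : Submodule A (F ⊗[A] N)), (q.rTensor N) y = 0 := by
    intro y hy
    refine Submodule.smul_induction_on hy (fun a ha z _ => ?_) (fun y z hy hz => ?_)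
    · rw [map_smul]
      refine smul_tensor_eq_zero a (fun fb => ?_) _
      obtain ⟨f, rfl⟩ := Submodule.Quotient.mk_surjective _ fb
      rw [← Submodule.Quotient.mk_smul]
      exact (Submodule.Quotient.mk_eq_zero _).2 (Submodule.smul_mem_smul ha Submodule.mem_top)
    · rw [map_add, hy, hz, add_zero]
  have h0 : ((q ∘ₗ R.subtype).rTensor N) x = 0 := by
    rw [LinearMap.rTensor_comp, LinearMap.comp_apply]
    exact hkill _ hx
  have hrange : ∀ w : K ⊗[A] N,
      (K.subtype.rTensor N) w ∈ (I ^ n • ⊤ : Submodule A (R ⊗[A] N)) := by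
    intro w
    induction w using TensorProduct.induction_on with
    | zero => rw [map_zero]; exact Submodule.zero_mem _
    | tmul k m =>
      rw [LinearMap.rTensor_tmul]
      apply tmul_mem_smul_top
      rw [Submodule.subtype_apply, Submodule.mem_smul_top_iff]
      have hk : ((k : R) : F) ∈ (I ^ (c + n) • ⊤ : Submodule A F) ⊓ R :=
        Submodule.mem_inf.2 ⟨k.2, (k : R).2⟩
      rw [hc (c + n) (Nat.le_add_right c n), Nat.add_sub_cancel_left] at hk
      exact Submodule.smul_mono le_rfl inf_le_right hk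
    | add u v hu hv => rw [map_add]; exact Submodule.add_mem _ hu hv
  obtain ⟨w, rfl⟩ := (hex' x).1 h0
  exact hrange w

end ARF

section EX

variable {A : Type u} [CommRing A] (I : Ideal A)
  {X Y Z : Type u} [AddCommGroup X] [Module A X] [AddCommGroup Y] [Module A Y]
  [AddCommGroup Z] [Module A Z] (ι : X →ₗ[A] Y) (g : Y →ₗ[A] Z)

/-- Exactness of adic completion in the middle under an Artin–Rees condition. -/
theorem completion_exact_of_ar (hex : Function.Exact ι g) (hg : Function.Surjective g)
    (c : ℕ) (har : ∀ (n : ℕ) (x : X), ι x ∈ (I ^ (c + n) • ⊤ : Submodule A Y) →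
      x ∈ (I ^ n • ⊤ : Submodule A X))
    (y : AdicCompletion I Y) (hy : AdicCompletion.map I g y = 0) :
    ∃ x : AdicCompletion I X, AdicCompletion.map I ι x = y := by
  obtain ⟨b, rfl⟩ := AdicCompletion.mk_surjective I Y y
  have hb : ∀ n : ℕ, g (b n) ∈ (I ^ n • ⊤ : Submodule A Z) := by
    intro n
    simpa using congrArg (fun x => x.val n) hy
  have h1 : ∀ n : ℕ, ∃ d : Y, d ∈ (I ^ n • ⊤ : Submodule A Y) ∧ g d = g (b n) := by
    intro n
    have : g (b n) ∈ Submodule.map g (I ^ n • ⊤ : Submodule A Y) := by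
      rw [Submodule.map_smul'', Submodule.map_top, LinearMap.range_eq_top.mpr hg]
      exact hb n
    obtain ⟨d, hd, hgd⟩ := this
    exact ⟨d, hd, hgd⟩
  choose d hd hgd using h1
  have h2 : ∀ n : ℕ, ∃ a : X, ι a = b n - d n := by
    intro n
    exact (hex (b n - d n)).1 (by rw [map_sub, hgd, sub_self])
  choose a ha using h2
  have hmono : ∀ {m n : ℕ}, m ≤ n →
      (I ^ n • ⊤ : Submodule A Y) ≤ (I ^ m • ⊤ : Submodule A Y) := fun h =>
    Submodule.smul_mono_left (Ideal.pow_le_pow_right h)
  have hC : ∀ n : ℕ, a (c + n) ≡ a (c + (n + 1)) [SMOD (I ^ n • ⊤ : Submodule A X)] := by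
    intro n
    rw [SModEq.sub_mem]
    apply har n
    rw [map_sub, ha, ha]
    have e : b (c + n) - d (c + n) - (b (c + (n + 1)) - d (c + (n + 1))) =
        (b (c + n) - b (c + (n + 1))) - d (c + n) + d (c + (n + 1)) := by abel
    rw [e]
    refine Submodule.add_mem _ (Submodule.sub_mem _ ?_ (hd _)) (hmono (by omega) (hd _))
    exact SModEq.sub_mem.1 (b.property (show c + n ≤ c + (n + 1) by omega))
  refine ⟨AdicCompletion.mk I X (AdicCompletion.AdicCauchySequence.mk I X (fun n => a (c + n)) hC),
    AdicCompletion.ext (fun n => ?_)⟩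
  rw [AdicCompletion.map_mk, AdicCompletion.mk_apply_coe, AdicCompletion.mk_apply_coe,
    Submodule.mkQ_apply, Submodule.mkQ_apply, Submodule.Quotient.eq]
  show ι (a (c + n)) - b n ∈ (I ^ n • ⊤ : Submodule A Y)
  rw [ha]
  have e : b (c + n) - d (c + n) - b n = (b (c + n) - b n) - d (c + n) := by abel
  rw [e]
  refine Submodule.sub_mem _ ?_ (hmono (by omega) (hd _))
  exact (Submodule.Quotient.eq _).1
    (AdicCompletion.AdicCauchySequence.mk_eq_mk (show n ≤ c + n by omega) b)

end EX

end Groth.Agent.Lib.Helper5.CplTen
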