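import Mathlib
import Groth.Agent.Lib.Helper3.LimFlat4
import Groth.Agent.Lib.Helper5.CplTen.ARFlat

/-! helper5: the adic completion of a flat module over a Noetherian ring is flat (from helper3's
`LimFlat`), and `X ⊗ N → X ⊗ N^` is bijective modulo `I`. -/

set_option autoImplicit false
set_option linter.unusedVariables false
set_option linter.unusedSectionVars false

open TensorProduct

namespace Groth.Agent.Lib.Helper5.CplTen

universe u

section FlatC

variable {A : Type u} [CommRing A] [IsNoetherianRing A] (I : Ideal A)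
  (N : Type u) [AddCommGroup N] [Module A N] [Module.Flat A N]

theorem flat_completion : Module.Flat A (AdicCompletion I N) := by
  haveI : Module.Flat (A ⧸ I) (N ⧸ (I • ⊤ : Submodule A N)) :=
    Module.Flat.of_linearEquiv
      ((quotTensorEquivQuotSMul N I).extendScalarsOfSurjective Ideal.Quotient.mk_surjective).symm
  have hT : Function.Injective
      (TensorProduct.lift ((LinearMap.lsmul A N).comp (Submodule.subtype I))) := by
    have h : TensorProduct.lift ((LinearMap.lsmul A N).comp (Submodule.subtype I)) =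
        (TensorProduct.lid A N).toLinearMap ∘ₗ I.subtype.rTensor N := by
      ext x m
      simp
    rw [h]
    exact (TensorProduct.lid A N).injective.comp
      (Module.Flat.rTensor_preserves_injective_linearMap I.subtype Subtype.val_injective)
  haveI := Groth.Agent.Helper3.LimFlat.main_S0551 A I N (IsNoetherian.noetherian I) hT
  exact Module.Flat.trans A (AdicCompletion I A) (AdicCompletion I N)

end FlatC

section ModI

variable {A : Type u} [CommRing A] (I : Ideal A)
  (X : Type u) [AddCommGroup X] [Module A X] (N : Type u) [AddCommGroup N] [Module A N]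

/-- tensors with elements of `J • ⊤` on the right lie in `J • ⊤`. -/
theorem tmul_mem_smul_top_right {X N : Type*} [AddCommGroup X] [Module A X] [AddCommGroup N]
    [Module A N] (J : Ideal A) (x : X) (m : N) (hm : m ∈ (J • ⊤ : Submodule A N)) :
    x ⊗ₜ[A] m ∈ (J • ⊤ : Submodule A (X ⊗[A] N)) := by
  refine Submodule.smul_induction_on hm (fun a ha y _ => ?_) (fun y z hy hz => ?_)
  · rw [TensorProduct.tmul_smul]
    exact Submodule.smul_mem_smul ha Submodule.mem_top
  · rw [TensorProduct.tmul_add]
    exact Submodule.add_mem _ hy hz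

theorem smul_tensor_eq_zero_right {X N : Type*} [AddCommGroup X] [Module A X] [AddCommGroup N]
    [Module A N] (a : A) (ha : ∀ m : N, a • m = 0) (w : X ⊗[A] N) : a • w = 0 := by
  induction w using TensorProduct.induction_on with
  | zero => rw [smul_zero]
  | tmul x m => rw [← TensorProduct.tmul_smul, ha, TensorProduct.tmul_zero]
  | add u v hu hv => rw [smul_add, hu, hv, add_zero]

/-- injectivity modulo `I` of `X ⊗ N → X ⊗ N^` -/
theorem lTensor_of_inj_mod (x : X ⊗[A] N)
    (hx : ((AdicCompletion.of I N).lTensor X) x ∈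
      (I • ⊤ : Submodule A (X ⊗[A] AdicCompletion I N))) :
    x ∈ (I • ⊤ : Submodule A (X ⊗[A] N)) := by
  let ev : AdicCompletion I N →ₗ[A] N ⧸ (I ^ 1 • ⊤ : Submodule A N) := AdicCompletion.eval I N 1
  have hcomp : ev ∘ₗ AdicCompletion.of I N = Submodule.mkQ (I ^ 1 • ⊤ : Submodule A N) :=
    LinearMap.ext (fun n => rfl)
  have hkill : ∀ y ∈ (I • ⊤ : Submodule A (X ⊗[A] AdicCompletion I N)),
      (ev.lTensor X) y = 0 := by
    intro y hy
    refine Submodule.smul_induction_on hy (fun a ha z _ => ?_) (fun y z hy hz => ?_)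
    · rw [map_smul]
      refine smul_tensor_eq_zero_right a (fun q => ?_) _
      obtain ⟨n, rfl⟩ := Submodule.Quotient.mk_surjective _ q
      rw [← Submodule.Quotient.mk_smul]
      refine (Submodule.Quotient.mk_eq_zero _).2 (Submodule.smul_mem_smul ?_ Submodule.mem_top)
      rw [pow_one]
      exact ha
    · rw [map_add, hy, hz, add_zero]
  have h0 : ((Submodule.mkQ (I ^ 1 • ⊤ : Submodule A N)).lTensor X) x = 0 := by
    rw [← hcomp, LinearMap.lTensor_comp, LinearMap.comp_apply]
    exact hkill _ hx
  have hex := lTensor_exact X (LinearMap.exact_subtype_mkQ (I ^ 1 • ⊤ : Submodule A N))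
    (Submodule.mkQ_surjective _)
  obtain ⟨w, rfl⟩ := (hex x).1 h0
  clear h0 hx
  induction w using TensorProduct.induction_on with
  | zero => rw [map_zero]; exact Submodule.zero_mem _
  | tmul x' k =>
    rw [LinearMap.lTensor_tmul]
    have e1 : (I ^ 1 • ⊤ : Submodule A N) = I • ⊤ := by rw [pow_one]
    have hk : (k : N) ∈ (I • ⊤ : Submodule A N) := e1.le k.2
    exact tmul_mem_smul_top_right I x' _ hk
  | add u v hu hv => rw [map_add]; exact Submodule.add_mem _ hu hv

/-- surjectivity modulo `I` of `X ⊗ N → X ⊗ N^` -/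
theorem lTensor_of_surj_mod (hI : I.FG) (y : X ⊗[A] AdicCompletion I N) :
    ∃ x : X ⊗[A] N, y - ((AdicCompletion.of I N).lTensor X) x ∈
      (I • ⊤ : Submodule A (X ⊗[A] AdicCompletion I N)) := by
  induction y using TensorProduct.induction_on with
  | zero => exact ⟨0, by rw [map_zero, sub_zero]; exact Submodule.zero_mem _⟩
  | tmul x' b =>
    obtain ⟨n, hn⟩ := Submodule.Quotient.mk_surjective _ (AdicCompletion.eval I N 1 b)
    refine ⟨x' ⊗ₜ[A] n, ?_⟩
    rw [LinearMap.lTensor_tmul, ← TensorProduct.tmul_sub]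
    apply tmul_mem_smul_top_right
    have hker : b - AdicCompletion.of I N n ∈ LinearMap.ker (AdicCompletion.eval I N 1) := by
      rw [LinearMap.mem_ker, map_sub, sub_eq_zero, ← hn]
      rfl
    rw [← AdicCompletion.pow_smul_top_eq_ker_eval hI, pow_one] at hker
    exact hker
  | add y₁ y₂ h₁ h₂ =>
    obtain ⟨x₁, hx₁⟩ := h₁
    obtain ⟨x₂, hx₂⟩ := h₂
    refine ⟨x₁ + x₂, ?_⟩
    have e : y₁ + y₂ - ((AdicCompletion.of I N).lTensor X) (x₁ + x₂) =
        (y₁ - ((AdicCompletion.of I N).lTensor X) x₁) +
          (y₂ - ((AdicCompletion.of I N).lTensor X) x₂) := by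
      rw [map_add]
      abel
    rw [e]
    exact Submodule.add_mem _ hx₁ hx₂

end ModI

end Groth.Agent.Lib.Helper5.CplTen
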