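import Mathlib
import Groth.Agent.Lib.Helper5.CplTen.ARFlat

/-! helper5: the comparison map `M ⊗ N^ → (M ⊗ N)^`, bijective for `M` finite and `N` flat over a
Noetherian ring. -/

set_option autoImplicit false
set_option linter.unusedVariables false
set_option linter.unusedSectionVars false

open TensorProduct

namespace Groth.Agent.Lib.Helper5.CplTen

universe u

section MapLin

variable {A : Type u} [CommRing A] (I : Ideal A)
  {M N : Type u} [AddCommGroup M] [Module A M] [AddCommGroup N] [Module A N]

theorem map_add' (f g : M →ₗ[A] N) :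
    AdicCompletion.map I (f + g) = AdicCompletion.map I f + AdicCompletion.map I g := by
  refine LinearMap.ext (fun x => AdicCompletion.ext (fun n => ?_))
  rw [LinearMap.add_apply, AdicCompletion.val_add_apply, AdicCompletion.map_val_apply,
    AdicCompletion.map_val_apply, AdicCompletion.map_val_apply]
  obtain ⟨y, hy⟩ := Submodule.Quotient.mk_surjective _ (x.val n)
  rw [← hy]
  rfl

theorem map_smul' (c : A) (f : M →ₗ[A] N) (x : AdicCompletion I M) :
    AdicCompletion.map I (c • f) x = c • AdicCompletion.map I f x := by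
  refine AdicCompletion.ext (fun n => ?_)
  rw [AdicCompletion.val_smul_apply, AdicCompletion.map_val_apply, AdicCompletion.map_val_apply]
  obtain ⟨y, hy⟩ := Submodule.Quotient.mk_surjective _ (x.val n)
  rw [← hy]
  rfl

/-- `AdicCompletion.map` as an additive map in the linear map. -/
noncomputable def mapAdd : (M →ₗ[A] N) →+
    (AdicCompletion I M →ₗ[AdicCompletion I A] AdicCompletion I N) where
  toFun := AdicCompletion.map I
  map_zero' := AdicCompletion.map_zero I
  map_add' := map_add' I

theorem map_sum' {κ : Type*} (s : Finset κ) (f : κ → (M →ₗ[A] N)) :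
    AdicCompletion.map I (∑ i ∈ s, f i) = ∑ i ∈ s, AdicCompletion.map I (f i) :=
  map_sum (mapAdd I) f s

end MapLin

section Mu

variable {A : Type u} [CommRing A] (I : Ideal A)
  (M : Type u) [AddCommGroup M] [Module A M] (N : Type u) [AddCommGroup N] [Module A N]

/-- the bilinear map underlying `mu` -/
noncomputable def muBil : M →ₗ[A] AdicCompletion I N →ₗ[A] AdicCompletion I (M ⊗[A] N) :=
  LinearMap.mk₂ A (fun m x => AdicCompletion.map I (TensorProduct.mk A M N m) x)
    (fun m₁ m₂ x => by rw [map_add (TensorProduct.mk A M N), map_add']; rfl)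
    (fun c m x => by rw [map_smul (TensorProduct.mk A M N), map_smul'])
    (fun m x₁ x₂ => map_add _ _ _)
    (fun c m x => LinearMap.map_smul_of_tower _ c x)

/-- the comparison map `M ⊗ N^ → (M ⊗ N)^` -/
noncomputable def mu : M ⊗[A] AdicCompletion I N →ₗ[A] AdicCompletion I (M ⊗[A] N) :=
  TensorProduct.lift (muBil I M N)

theorem mu_tmul (m : M) (x : AdicCompletion I N) :
    mu I M N (m ⊗ₜ[A] x) = AdicCompletion.map I (TensorProduct.mk A M N m) x := rfl

variable {M}

theorem mu_nat {M' : Type u} [AddCommGroup M'] [Module A M'] (g : M →ₗ[A] M')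
    (z : M ⊗[A] AdicCompletion I N) :
    mu I M' N ((g.rTensor (AdicCompletion I N)) z) =
      AdicCompletion.map I (g.rTensor N) (mu I M N z) := by
  induction z using TensorProduct.induction_on with
  | zero => simp only [map_zero]
  | tmul m x =>
    rw [LinearMap.rTensor_tmul, mu_tmul, mu_tmul, AdicCompletion.map_comp_apply]
    have e : TensorProduct.mk A M' N (g m) = (g.rTensor N) ∘ₗ TensorProduct.mk A M N m :=
      LinearMap.ext (fun n => rfl)
    rw [e]
  | add a b ha hb => simp only [map_add, ha, hb]

variable (M)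

theorem mu_of (z : M ⊗[A] N) :
    mu I M N (((AdicCompletion.of I N).lTensor M) z) = AdicCompletion.of I (M ⊗[A] N) z := by
  induction z using TensorProduct.induction_on with
  | zero => simp only [map_zero]
  | tmul m n =>
    rw [LinearMap.lTensor_tmul, mu_tmul]
    rfl
  | add a b ha hb => simp only [map_add, ha, hb]

theorem mu_self_bijective : Function.Bijective (mu I A N) := by
  have h : ∀ x : AdicCompletion I N, mu I A N ((TensorProduct.lid A _).symm x) =
      AdicCompletion.congr I (TensorProduct.lid A N).symm x := by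
    intro x
    rw [TensorProduct.lid_symm_apply, mu_tmul, AdicCompletion.congr_apply]
    have e : TensorProduct.mk A A N 1 = (TensorProduct.lid A N).symm.toLinearMap :=
      LinearMap.ext (fun n => rfl)
    rw [e]
  have h2 : ⇑(mu I A N) = ⇑(AdicCompletion.congr I (TensorProduct.lid A N).symm) ∘
      ⇑(TensorProduct.lid A (AdicCompletion I N)) := by
    funext z
    have := h (TensorProduct.lid A _ z)
    rw [LinearEquiv.symm_apply_apply] at this
    exact this
  rw [h2]
  exact (LinearEquiv.bijective _).comp (LinearEquiv.bijective _)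

theorem sum_single_proj (r : ℕ) :
    ∑ i : Fin r, (LinearMap.single A (fun _ : Fin r => A) i) ∘ₗ
      (LinearMap.proj i : (Fin r → A) →ₗ[A] A) = LinearMap.id := by
  refine LinearMap.ext (fun f => ?_)
  rw [LinearMap.sum_apply]
  exact Finset.univ_sum_single f

theorem mu_pi_bijective (r : ℕ) : Function.Bijective (mu I (Fin r → A) N) := by
  set π : ∀ i : Fin r, (Fin r → A) →ₗ[A] A := fun i => LinearMap.proj i with hπ
  set ι : ∀ i : Fin r, A →ₗ[A] (Fin r → A) :=
    fun i => LinearMap.single A (fun _ : Fin r => A) i with hι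
  have hid : ∑ i : Fin r, (ι i) ∘ₗ (π i) = LinearMap.id := sum_single_proj r
  constructor
  · rw [injective_iff_map_eq_zero]
    intro z hz
    have h1 : ∀ i, ((π i).rTensor (AdicCompletion I N)) z = 0 := by
      intro i
      apply (mu_self_bijective I N).1
      rw [mu_nat, hz, map_zero, map_zero]
    have h2 : (∑ i : Fin r, ((ι i) ∘ₗ (π i))).rTensor (AdicCompletion I N) =
        ∑ i : Fin r, ((ι i) ∘ₗ (π i)).rTensor (AdicCompletion I N) :=
      map_sum (LinearMap.rTensorHom (AdicCompletion I N)) _ _
    have h3 : z = (LinearMap.id : (Fin r → A) →ₗ[A] (Fin r → A)).rTensor (AdicCompletion I N) z := by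
      rw [LinearMap.rTensor_id_apply]
    rw [h3, ← hid, h2, LinearMap.sum_apply]
    refine Finset.sum_eq_zero (fun i _ => ?_)
    rw [LinearMap.rTensor_comp_apply, h1, map_zero]
  · intro w
    choose a ha using fun i => (mu_self_bijective I N).2
      (AdicCompletion.map I ((π i).rTensor N) w)
    refine ⟨∑ i : Fin r, ((ι i).rTensor (AdicCompletion I N)) (a i), ?_⟩
    rw [map_sum]
    have h2 : (∑ i : Fin r, ((ι i) ∘ₗ (π i))).rTensor N =
        ∑ i : Fin r, ((ι i) ∘ₗ (π i)).rTensor N :=
      map_sum (LinearMap.rTensorHom N) _ _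
    have h3 : w = AdicCompletion.map I
        ((LinearMap.id : (Fin r → A) →ₗ[A] (Fin r → A)).rTensor N) w := by
      rw [LinearMap.rTensor_id, AdicCompletion.map_id]
      rfl
    conv_rhs => rw [h3, ← hid, h2, map_sum', LinearMap.sum_apply]
    refine Finset.sum_congr rfl (fun i _ => ?_)
    rw [mu_nat, ha, LinearMap.rTensor_comp, ← AdicCompletion.map_comp_apply]

end Mu

section Fin

variable {A : Type u} [CommRing A] (I : Ideal A)
  (M : Type u) [AddCommGroup M] [Module A M] (N : Type u) [AddCommGroup N] [Module A N]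

theorem mu_surjective_of_finite [Module.Finite A M] : Function.Surjective (mu I M N) := by
  obtain ⟨r, p, hp⟩ := Module.Finite.exists_fin' A M
  intro w
  obtain ⟨w', rfl⟩ := AdicCompletion.map_surjective I (LinearMap.rTensor_surjective N hp) w
  obtain ⟨a, rfl⟩ := (mu_pi_bijective I N r).2 w'
  exact ⟨(p.rTensor _) a, mu_nat I N p a⟩

theorem mu_bijective_of_finite [IsNoetherianRing A] [Module.Finite A M] [Module.Flat A N] :
    Function.Bijective (mu I M N) := by
  refine ⟨?_, mu_surjective_of_finite I M N⟩
  obtain ⟨r, p, hp⟩ := Module.Finite.exists_fin' A M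
  haveI : Module.Finite A (LinearMap.ker p) := inferInstance
  have hex : Function.Exact (LinearMap.ker p).subtype p := LinearMap.exact_subtype_ker_map p
  obtain ⟨c, hc⟩ := arFlat I (LinearMap.ker p) N
  have hexT : Function.Exact ((LinearMap.ker p).subtype.rTensor N) (p.rTensor N) :=
    rTensor_exact N hex hp
  rw [injective_iff_map_eq_zero]
  intro z hz
  obtain ⟨y, rfl⟩ := LinearMap.rTensor_surjective (AdicCompletion I N) hp z
  have h1 : AdicCompletion.map I (p.rTensor N) (mu I _ N y) = 0 := by rw [← mu_nat, hz]
  have key := completion_exact_of_ar (I := I) (X := ↥(LinearMap.ker p) ⊗[A] N)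
    (Y := (Fin r → A) ⊗[A] N) (Z := M ⊗[A] N) ((LinearMap.ker p).subtype.rTensor N)
    (p.rTensor N) hexT (LinearMap.rTensor_surjective N hp) c hc
  obtain ⟨x, hx⟩ := key _ h1
  obtain ⟨w, rfl⟩ := mu_surjective_of_finite I (LinearMap.ker p) N x
  rw [← mu_nat] at hx
  have h2 := (mu_pi_bijective I N r).1 hx
  rw [← h2, ← LinearMap.rTensor_comp_apply]
  have h3 : p ∘ₗ (LinearMap.ker p).subtype = 0 := LinearMap.ext fun k => k.2
  rw [h3, LinearMap.rTensor_zero, LinearMap.zero_apply]

end Fin

end Groth.Agent.Lib.Helper5.CplTen
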