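import Mathlib
import Groth.Prelude.Def_DRing3
import Groth.Agent.Lib.Helper3.DCompFlat2
import Groth.Agent.Lib.Helper5.CplTen.Mu
import Groth.Agent.Lib.Helper5.CplTen.Flat

/-! helper5: derived completion of `M ⊗ N` for `M` finite and `N` flat over a Noetherian ring
(S7061), following helper3's `DCompFlat`. -/

set_option autoImplicit false
set_option linter.unusedVariables false
set_option linter.unusedSectionVars false
universe u
open CategoryTheory CategoryTheory.Limits MonoidalCategory TensorProduct DerivedCategory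
  Pretriangulated Triangulated

attribute [local instance] HasDerivedCategory.standard

namespace Groth.Agent.Lib.Helper5.CplTen

open Groth.Agent.Helper5.FlatAcyc Groth.Agent.Lib.Helper5.KProj Groth.Agent.Lib.Helper5.KFlat
  Groth.Agent.Lib.Helper5.DTenLib Helper5.DMod Groth.Agent.Helper5.TorAmp
  Groth.Agent.Helper3.DCompFlat Groth.Agent.Helper3.ProjLiftNil

variable {A : Type u} [CommRing A]

section TMNat

/-- `P ⊗ W` is K-flat when `P` is K-flat and `W` is flat -/
lemma isKFlat_TM_of_flat (W : ModuleCat.{u} A) [Module.Flat A W] (P : DRing.Cx A)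
    (hP : DRing.IsKFlat A P) : DRing.IsKFlat A ((TM W).obj P) := by
  let Qc : DRing.Cx A :=
    (HomologicalComplex.single (ModuleCat.{u} A) (ComplexShape.up ℤ) 0).obj W
  have hz : ∀ n, n ≠ 0 → IsZero (Qc.X n) := fun n hn =>
    HomologicalComplex.isZero_single_obj_X (ComplexShape.up ℤ) 0 W n hn
  let e : Qc.X 0 ≅ W := HomologicalComplex.singleObjXSelf (ComplexShape.up ℤ) 0 W
  have hfl : Module.Flat A W := inferInstance
  have hQ : DRing.IsKFlat A Qc := isKFlat_of_concentrated Qc 0 hz (flat_of_iso e.symm hfl)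
  refine isKFlat_of_iso (tensorConcIso P Qc hz e).symm ?_
  intro M hM i
  have h1 : ∀ j, IsZero ((M ⊗ P).homology j) := hP M hM
  have h2 := hQ (M ⊗ P) h1 i
  exact h2.of_iso ((HomologicalComplex.homologyFunctor (ModuleCat.{u} A) (ComplexShape.up ℤ)
    i).mapIso (α_ M P Qc).symm)

/-- the natural transformation `- ⊗ W ⟶ - ⊗ W'` induced by `g : W ⟶ W'` -/
noncomputable def trNat {W W' : ModuleCat.{u} A} (g : W ⟶ W') :
    tensorRight W ⟶ tensorRight W' where
  app X := X ◁ g
  naturality X Y f := (whisker_exchange f g).symm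

/-- the same on complexes -/
noncomputable def tmNat {W W' : ModuleCat.{u} A} (g : W ⟶ W') : TM W ⟶ TM W' :=
  NatTrans.mapHomologicalComplex (trNat g) (ComplexShape.up ℤ)

lemma tmNat_app_f {W W' : ModuleCat.{u} A} (g : W ⟶ W') (P : DRing.Cx A) (n : ℤ) :
    ((tmNat g).app P).f n = (P.X n) ◁ g := rfl

/-- compatibility with complexes concentrated in degree `0` -/
noncomputable def singleIso (W M : ModuleCat.{u} A) :
    (TM W).obj ((HomologicalComplex.single (ModuleCat.{u} A) (ComplexShape.up ℤ) 0).obj M) ≅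
      (HomologicalComplex.single (ModuleCat.{u} A) (ComplexShape.up ℤ) 0).obj (M ⊗ W) :=
  (HomologicalComplex.singleMapHomologicalComplex (tensorRight W) (ComplexShape.up ℤ) 0).app M

lemma comp_aux {C : Type*} [Category C] {P0 P1 P2 P3 R1 R2 : C} (a : P0 ⟶ P1) (b : P1 ⟶ P2)
    (c : P2 ⟶ P3) (d : P0 ⟶ R1) (e : R1 ⟶ R2) (e' : R2 ⟶ R1) (t : R1 ⟶ P2)
    (h1 : e ≫ e' = 𝟙 _) (h2 : d ≫ t = a ≫ b) : a ≫ b ≫ c = (d ≫ e) ≫ e' ≫ t ≫ c := by
  rw [Category.assoc, ← Category.assoc e, h1, Category.id_comp, ← Category.assoc d t c, h2,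
    Category.assoc]

lemma single_nat (F F' : ModuleCat.{u} A ⥤ ModuleCat.{u} A) [F.Additive] [F'.Additive]
    (τ : F ⟶ F') (X : ModuleCat.{u} A) :
    (NatTrans.mapHomologicalComplex τ (ComplexShape.up ℤ)).app
        ((HomologicalComplex.single (ModuleCat.{u} A) (ComplexShape.up ℤ) 0).obj X) ≫
      (HomologicalComplex.singleMapHomologicalComplex F' (ComplexShape.up ℤ) 0).hom.app X =
    (HomologicalComplex.singleMapHomologicalComplex F (ComplexShape.up ℤ) 0).hom.app X ≫
      (HomologicalComplex.single (ModuleCat.{u} A) (ComplexShape.up ℤ) 0).map (τ.app X) := by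
  apply HomologicalComplex.to_single_hom_ext
  simp only [HomologicalComplex.comp_f, NatTrans.mapHomologicalComplex_app_f,
    HomologicalComplex.singleMapHomologicalComplex_hom_app_self,
    HomologicalComplex.single_map_f_self]
  exact comp_aux _ _ _ _ _ _ _ (Iso.inv_hom_id _) (τ.naturality _)

lemma singleIso_nat {W W' : ModuleCat.{u} A} (g : W ⟶ W') (M : ModuleCat.{u} A) :
    (tmNat g).app ((HomologicalComplex.single (ModuleCat.{u} A) (ComplexShape.up ℤ) 0).obj M) ≫
      (singleIso W' M).hom =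
    (singleIso W M).hom ≫
      (HomologicalComplex.single (ModuleCat.{u} A) (ComplexShape.up ℤ) 0).map (M ◁ g) :=
  single_nat (tensorRight W) (tensorRight W') (trNat g) M

end TMNat

section Crux

variable (I : Ideal A) {W W' : ModuleCat.{u} A} [Module.Flat A W] [Module.Flat A W']
  (g : W ⟶ W') (hg : ∀ X : ModuleCat.{u} A, IsIso ((E I).map (X ◁ g)))

include hg in
/-- `P ⊗ W → P ⊗ W'` becomes an isomorphism after derived base change to `A/I` -/
lemma isIso_lbc_tmNat (P : DRing.Cx A) (hP : DRing.IsKFlat A P) :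
    IsIso ((DRing.LBaseChange (algebraMap A (A ⧸ I))).map (Q.map ((tmNat g).app P))) := by
  have hnat := (lbcCmp (algebraMap A (A ⧸ I))).naturality ((tmNat g).app P)
  haveI i1 : IsIso ((lbcCmp (algebraMap A (A ⧸ I))).app ((TM W).obj P)) :=
    isIso_lbcCmp_of_isKFlat (algebraMap A (A ⧸ I)) _ (isKFlat_TM_of_flat W P hP)
  haveI i2 : IsIso ((lbcCmp (algebraMap A (A ⧸ I))).app ((TM W').obj P)) :=
    isIso_lbcCmp_of_isKFlat (algebraMap A (A ⧸ I)) _ (isKFlat_TM_of_flat W' P hP)
  haveI i3 : IsIso ((bcCx (algebraMap A (A ⧸ I))).map ((tmNat g).app P)) := by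
    haveI : ∀ n, IsIso (((bcCx (algebraMap A (A ⧸ I))).map ((tmNat g).app P)).f n) := fun n =>
      hg (P.X n)
    exact HomologicalComplex.Hom.isIso_of_components _
  haveI i4 : IsIso ((bcCx (algebraMap A (A ⧸ I)) ⋙ Q).map ((tmNat g).app P)) := by
    show IsIso (Q.map ((bcCx (algebraMap A (A ⧸ I))).map ((tmNat g).app P)))
    infer_instance
  have key : (DRing.LBaseChange (algebraMap A (A ⧸ I))).map (Q.map ((tmNat g).app P)) =
      (lbcCmp (algebraMap A (A ⧸ I))).app ((TM W).obj P) ≫
        (bcCx (algebraMap A (A ⧸ I)) ⋙ Q).map ((tmNat g).app P) ≫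
          inv ((lbcCmp (algebraMap A (A ⧸ I))).app ((TM W').obj P)) := by
    rw [← Category.assoc, ← hnat, Category.assoc, IsIso.hom_inv_id, Category.comp_id]
    rfl
  rw [key]
  infer_instance

include hg in
/-- `M ⊗ W → M ⊗ W'` in degree `0` becomes an isomorphism after derived base change to `A/I` -/
lemma isIso_lbc_single (M : ModuleCat.{u} A) :
    IsIso ((DRing.LBaseChange (algebraMap A (A ⧸ I))).map
      (Q.map ((HomologicalComplex.single (ModuleCat.{u} A) (ComplexShape.up ℤ) 0).map
        (M ◁ g)))) := by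
  let S : DRing.Cx A := (HomologicalComplex.single (ModuleCat.{u} A) (ComplexShape.up ℤ) 0).obj M
  let P : DRing.Cx A := res S
  let r : P ⟶ S := resMap S
  haveI := pfc_tensorRight W
  haveI := pfc_tensorRight W'
  haveI q1 : QuasiIso ((TM W).map r) := inferInstance
  haveI q2 : QuasiIso ((TM W').map r) := inferInstance
  haveI j1 : IsIso (Q.map ((TM W).map r)) := inferInstance
  haveI j2 : IsIso (Q.map ((TM W').map r)) := inferInstance
  haveI j3 := isIso_lbc_tmNat I g hg P (isKFlat_res S)
  let L := DRing.LBaseChange (algebraMap A (A ⧸ I))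
  have e : Q.map ((tmNat g).app P) ≫ Q.map ((TM W').map r) =
      Q.map ((TM W).map r) ≫ Q.map ((tmNat g).app S) := by
    rw [← Q.map_comp, ← Q.map_comp, (tmNat g).naturality]
  have e' : L.map (Q.map ((tmNat g).app S)) =
      inv (L.map (Q.map ((TM W).map r))) ≫ L.map (Q.map ((tmNat g).app P)) ≫
        L.map (Q.map ((TM W').map r)) := by
    rw [IsIso.eq_inv_comp, ← L.map_comp, ← L.map_comp, e]
  haveI j4 : IsIso (L.map (Q.map ((tmNat g).app S))) := by
    rw [e']
    infer_instance
  have e2 : (HomologicalComplex.single (ModuleCat.{u} A) (ComplexShape.up ℤ) 0).map (M ◁ g) =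
      (singleIso W M).inv ≫ (tmNat g).app S ≫ (singleIso W' M).hom := by
    rw [singleIso_nat, Iso.inv_hom_id_assoc]
  show IsIso (L.map (Q.map _))
  rw [e2, Q.map_comp, Q.map_comp, L.map_comp, L.map_comp]
  infer_instance

end Crux

end Groth.Agent.Lib.Helper5.CplTen
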