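import Mathlib
import Groth.Prelude.Def_DRing3
import Groth.Agent.Lib.Helper3.DCompFlat2
import Groth.Agent.Lib.Helper5.CplTen.DC

/-! helper5: S7061 — the derived completion of `M ⊗ N` (`M` finite, `N` flat, `A` Noetherian) is
the adic completion of `M ⊗ N` in degree `0`. -/

set_option autoImplicit false
set_option linter.unusedVariables false
set_option linter.unusedSectionVars false
universe u
open CategoryTheory CategoryTheory.Limits MonoidalCategory TensorProduct DerivedCategory
  Pretriangulated Triangulated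

attribute [local instance] HasDerivedCategory.standard

namespace Groth.Agent.Lib.Helper5.CplTen

open Groth.Agent.Helper5.FlatAcyc Groth.Agent.Lib.Helper5.KProj Groth.Agent.Lib.Helper5.KFlat
  Groth.Agent.Lib.Helper5.DTenLib Helper5.DMod Groth.Agent.Helper5.TorAmp
  Groth.Agent.Helper3.DCompFlat Groth.Agent.Helper3.ProjLiftNil

variable {A : Type u} [CommRing A]

section Main

variable [IsNoetherianRing A] (I : Ideal A)

lemma isIso_E_whisker (N : Type u) [AddCommGroup N] [Module A N] (X : ModuleCat.{u} A) :
    IsIso ((E I).map (X ◁ (ModuleCat.ofHom (AdicCompletion.of I N) :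
      ModuleCat.of A N ⟶ ModuleCat.of A (AdicCompletion I N)))) :=
  (ConcreteCategory.isIso_iff_bijective _).2
    (bijective_E_map I _
      (fun y => lTensor_of_surj_mod I X N (IsNoetherian.noetherian I) y)
      (fun x hx => lTensor_of_inj_mod I X N x hx))

variable [DRing.HasDerivedCompletion I]
  (M N : Type u) [AddCommGroup M] [Module A M] [Module.Finite A M]
  [AddCommGroup N] [Module A N] [Module.Flat A N]

theorem main :
    (∀ i : ℤ, i ≠ 0 → Subsingleton (Dual.HD A
        ((DRing.derivedCompletion I).obj (Dual.inD A (M ⊗[A] N))).obj i)) ∧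
      ∃ e : Dual.HD A ((DRing.derivedCompletion I).obj (Dual.inD A (M ⊗[A] N))).obj 0 ≃ₗ[A]
          AdicCompletion I (M ⊗[A] N),
        ∀ x : M ⊗[A] N,
          e ((((DerivedCategory.singleFunctorCompHomologyFunctorIso (ModuleCat.{u} A) 0).inv.app
                (ModuleCat.of A (M ⊗[A] N))) ≫
              (DerivedCategory.homologyFunctor (ModuleCat.{u} A) 0).map
                (DRing.toDerivedCompletion I (Dual.inD A (M ⊗[A] N)))).hom x) =
            AdicCompletion.of I (M ⊗[A] N) x := by
  classical
  let sF := DerivedCategory.singleFunctor (ModuleCat.{u} A) 0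
  let h : ModuleCat.of A (M ⊗[A] N) ⟶ ModuleCat.of A (AdicCompletion I (M ⊗[A] N)) :=
    ModuleCat.ofHom (AdicCompletion.of I (M ⊗[A] N))
  let K : Dual.D A := Dual.inD A (M ⊗[A] N)
  let Y : Dual.D A := Dual.inD A (AdicCompletion I (M ⊗[A] N))
  let fD : K ⟶ Y := sF.map h
  have hfg : I.FG := IsNoetherian.noetherian I
  haveI : IsAdicComplete I (AdicCompletion I (M ⊗[A] N)) := AdicCompletion.isAdicComplete hfg
  -- `Y` is derived complete
  have hY : DRing.IsDerivedComplete I Y := by
    let E0 : DRing.Cx A := (HomologicalComplex.single (ModuleCat.{u} A) (ComplexShape.up ℤ) 0).obj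
      (ModuleCat.of A (AdicCompletion I (M ⊗[A] N)))
    refine isDerivedComplete_of_terms I E0 (fun f hf i => ?_) Y
      ((DerivedCategory.singleFunctorIsoCompQ (ModuleCat.{u} A) 0).app
        (ModuleCat.of A (AdicCompletion I (M ⊗[A] N)))).symm
    by_cases hi : i = 0
    · subst hi
      exact (DC.of_isAdicComplete (I := I) (M := AdicCompletion I (M ⊗[A] N)) hf).of_equiv
        (HomologicalComplex.singleObjXSelf (ComplexShape.up ℤ) 0
          (ModuleCat.of A (AdicCompletion I (M ⊗[A] N)))).symm.toLinearEquiv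
    · haveI : Subsingleton (E0.X i) := ModuleCat.subsingleton_of_isZero
        (HomologicalComplex.isZero_single_obj_X (ComplexShape.up ℤ) 0 _ i hi)
      exact DC_of_subsingleton f _
  -- the map becomes an isomorphism after derived base change to `A/I`
  let L := DRing.LBaseChange (algebraMap A (A ⧸ I))
  haveI flatN' : Module.Flat A (ModuleCat.of A (AdicCompletion I N)) := flat_completion I N
  haveI flatN : Module.Flat A (ModuleCat.of A N) := ‹Module.Flat A N›
  let g : ModuleCat.of A N ⟶ ModuleCat.of A (AdicCompletion I N) :=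
    ModuleCat.ofHom (AdicCompletion.of I N)
  have hg : ∀ X : ModuleCat.{u} A, IsIso ((E I).map (X ◁ g)) := isIso_E_whisker I N
  have hμ := mu_bijective_of_finite I M N
  let μe : (M ⊗[A] AdicCompletion I N) ≃ₗ[A] AdicCompletion I (M ⊗[A] N) :=
    LinearEquiv.ofBijective (mu I M N) hμ
  have hfac : h = ((ModuleCat.of A M) ◁ g) ≫ μe.toModuleIso.hom := by
    refine ModuleCat.hom_ext (LinearMap.ext fun z => ?_)
    exact (mu_of I M N z).symm
  haveI hC : IsIso (L.map fD) := by
    have h1 : IsIso (L.map (sF.map ((ModuleCat.of A M) ◁ g))) :=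
      isIso_lbc_single I g hg (ModuleCat.of A M)
    have h2 : fD = sF.map ((ModuleCat.of A M) ◁ g) ≫ sF.map μe.toModuleIso.hom := by
      show sF.map h = _
      rw [hfac, Functor.map_comp]
    rw [h2, Functor.map_comp]
    infer_instance
  -- the comparison map
  obtain ⟨v, hv0⟩ := (unit_comp_bijective I K Y hY).2 fD
  have hv : DRing.toDerivedCompletion I K ≫ v = fD := hv0
  haveI hiso : IsIso v := by
    letI : (DRing.LBaseChange (algebraMap A (A ⧸ I))).CommShift ℤ :=
      (myAdj (algebraMap A (A ⧸ I))).leftAdjointCommShift ℤ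
    haveI : (myAdj (algebraMap A (A ⧸ I))).CommShift ℤ :=
      (myAdj (algebraMap A (A ⧸ I))).commShift_of_rightAdjoint ℤ
    haveI : (DRing.LBaseChange (algebraMap A (A ⧸ I))).IsTriangulated :=
      (myAdj (algebraMap A (A ⧸ I))).isTriangulated_leftAdjoint
    haveI hA := Groth.Agent.Helper3.DCompFlat.isIso_lbc_unit I K
    have hfac2 : (DRing.LBaseChange (algebraMap A (A ⧸ I))).map (DRing.toDerivedCompletion I K) ≫
        (DRing.LBaseChange (algebraMap A (A ⧸ I))).map v =
        (DRing.LBaseChange (algebraMap A (A ⧸ I))).map fD := by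
      rw [← Functor.map_comp, hv]
    have hLv : IsIso ((DRing.LBaseChange (algebraMap A (A ⧸ I))).map v) :=
      IsIso.of_isIso_fac_left hfac2
    obtain ⟨Z, g₂, g₃, hT⟩ := distinguished_cocone_triangle v
    have hLZ : IsZero ((DRing.LBaseChange (algebraMap A (A ⧸ I))).obj Z) := by
      have hT' := (DRing.LBaseChange (algebraMap A (A ⧸ I))).map_distinguished _ hT
      exact (Triangle.isZero₃_iff_isIso₁ _ hT').2 hLv
    have hZc : DRing.IsDerivedComplete I Z :=
      isDerivedComplete_obj₃ I _ hT ((DRing.derivedCompletion I).obj K).property hY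
    haveI : DRing.HasLTensor A (Helper5.Nak.AI I) := Groth.Agent.Helper3.LTenDev.hasLTensor _
    have hZ : IsZero Z := Helper5.Nak.nakayama I (IsNoetherian.noetherian I) Z hZc
      (isZero_ltensor_of_isZero_lbc I Z hLZ)
    exact (Triangle.isZero₃_iff_isIso₁ _ hT).1 hZ
  -- homology
  let H := DerivedCategory.homologyFunctor (ModuleCat.{u} A) 0
  let σ := DerivedCategory.singleFunctorCompHomologyFunctorIso (ModuleCat.{u} A) 0
  refine ⟨fun i hi => ?_, ?_⟩
  · have e1 := HDEquivOfIso (asIso v) i
    haveI : Y.IsGE 0 := (inferInstance : ((DerivedCategory.singleFunctor (ModuleCat.{u} A) 0).obj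
      (ModuleCat.of A (AdicCompletion I (M ⊗[A] N)))).IsGE 0)
    haveI : Y.IsLE 0 := (inferInstance : ((DerivedCategory.singleFunctor (ModuleCat.{u} A) 0).obj
      (ModuleCat.of A (AdicCompletion I (M ⊗[A] N)))).IsLE 0)
    have hz : IsZero ((DerivedCategory.homologyFunctor (ModuleCat.{u} A) i).obj Y) := by
      rcases lt_or_gt_of_ne hi with h' | h'
      · exact DerivedCategory.isZero_of_isGE Y 0 i h'
      · exact DerivedCategory.isZero_of_isLE Y 0 i h'
    haveI : Subsingleton (Dual.HD A Y i) := ModuleCat.subsingleton_of_isZero hz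
    exact e1.toEquiv.subsingleton
  · refine ⟨(HDEquivOfIso (asIso v) 0) ≪≫ₗ
      (σ.app (ModuleCat.of A (AdicCompletion I (M ⊗[A] N)))).toLinearEquiv, fun x => ?_⟩
    have hnat := σ.hom.naturality h
    have key : σ.inv.app (ModuleCat.of A (M ⊗[A] N)) ≫ H.map (DRing.toDerivedCompletion I K) ≫
        H.map v ≫ σ.hom.app (ModuleCat.of A (AdicCompletion I (M ⊗[A] N))) = h := by
      rw [← H.map_comp_assoc, hv]
      have e0 : H.map fD = (sF ⋙ H).map h := rfl
      rw [e0, hnat, Iso.inv_hom_id_app_assoc]
      rfl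
    exact congrArg (fun q => q.hom x) key

end Main

end Groth.Agent.Lib.Helper5.CplTen
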